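import Groth.Agent.HilbGr.Degree

/-!
Existence of the Hilbert polynomial and the bound on its degree.
-/

set_option autoImplicit false

universe u

open Polynomial

namespace Groth.Agent.HilbGr

variable {k : Type u} [Field k] {n : ℕ}

theorem exists_poly (I : Ideal (MvPolynomial (Fin (n + 1)) k))
    (hI : I.IsHomogeneous (CohB1.polyGrading n k)) :
    ∃ (P : ℚ[X]) (m₀ : ℕ), ∀ m : ℕ, m₀ ≤ m → P.eval (m : ℚ) = hfun I m := by
  rcases eq_or_ne I ⊤ with rfl | hne
  · refine ⟨0, 0, fun m _ => ?_⟩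
    haveI : Subsingleton (↥(CohB1.polyGrading n k m) ⧸
      (Submodule.restrictScalars k (⊤ : Ideal (MvPolynomial (Fin (n + 1)) k))).comap (CohB1.polyGrading n k m).subtype) :=
      Submodule.Quotient.subsingleton_iff.mpr (by simp)
    rw [eval_zero, hfun, Module.finrank_zero_of_subsingleton, Nat.cast_zero]
  obtain ⟨L, _, _, _, -, hhs⟩ := exists_local I hI hne
  obtain ⟨R, hR⟩ := Groth.Agent.HSLib.exists_poly_jacobson (A := L) L
  obtain ⟨N, hN⟩ := Filter.eventually_atTop.mp hR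
  refine ⟨R.comp (X + C 1) - R, N, fun m hm => ?_⟩
  have e1 := hN (m + 1) (Nat.le_succ_of_le hm)
  have e2 := hN m hm
  rw [hhs, Finset.sum_range_succ] at e1
  rw [hhs] at e2
  push_cast at e1 e2
  simp only [eval_sub, eval_comp, eval_add, Polynomial.eval_X, Polynomial.eval_C]
  linarith

theorem exists_poly_degree_lt (I : Ideal (MvPolynomial (Fin (n + 1)) k))
    (hI : I.IsHomogeneous (CohB1.polyGrading n k)) (h0 : I ≠ ⊥) :
    ∃ P : ℚ[X], P.degree < (n : WithBot ℕ) ∧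
      ∃ m₀ : ℕ, ∀ m : ℕ, m₀ ≤ m → P.eval (m : ℚ) = hfun I m := by
  obtain ⟨P, m₀, hP⟩ := exists_poly I hI
  refine ⟨P, ?_, m₀, hP⟩
  rcases eq_or_ne P 0 with rfl | hP0
  · exact degree_zero.trans_lt (WithBot.bot_lt_coe _)
  obtain ⟨a, ha, ha0⟩ := Submodule.exists_mem_ne_zero_of_ne_bot h0
  have h1 := dim_eq I hI P hP0 ⟨m₀, hP⟩
  have h2 : ringKrullDim (MvPolynomial (Fin (n + 1)) k ⧸ I) ≤
      ringKrullDim (MvPolynomial (Fin (n + 1)) k ⧸ Ideal.span {a}) :=
    ringKrullDim_le_of_surjective (Ideal.Quotient.factor ((Ideal.span_singleton_le_iff_mem I).mpr ha))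
      (Ideal.Quotient.factor_surjective _)
  have h3 := ringKrullDim_quotient_succ_le_of_nonZeroDivisor (mem_nonZeroDivisors_of_ne_zero ha0)
  rw [show ringKrullDim (MvPolynomial (Fin (n + 1)) k) = ((n + 1 : ℕ) : WithBot ℕ∞) by
    simp [MvPolynomial.ringKrullDim_of_isNoetherianRing]] at h3
  rw [h1] at h2
  have h4 := (add_le_add h2 (le_refl (1 : WithBot ℕ∞))).trans h3
  have h5 : P.natDegree + 1 + 1 ≤ n + 1 := by exact_mod_cast h4
  rw [degree_eq_natDegree hP0]
  exact_mod_cast (by omega : P.natDegree < n)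

end Groth.Agent.HilbGr
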