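import Groth.Agent.HilbGr.Section
import Groth.Agent.HilbGr.Exists

/-!
The associativity formula for the degree of a homogeneous ideal.
-/

set_option autoImplicit false

universe u

open Polynomial

namespace Groth.Agent.HilbGr

variable {k : Type u} [Field k] {n : ℕ}

local notation "S" => MvPolynomial (Fin (n + 1)) k

/-- `P` is the Hilbert polynomial of `S ⧸ I`. -/
def IsHP (I : Ideal (MvPolynomial (Fin (n + 1)) k)) (P : ℚ[X]) : Prop :=
  ∃ m₀ : ℕ, ∀ m : ℕ, m₀ ≤ m → P.eval (m : ℚ) = hfun I m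

/-- The Hilbert polynomial. -/
noncomputable def hpol (I : Ideal (MvPolynomial (Fin (n + 1)) k)) : ℚ[X] :=
  Classical.epsilon (IsHP I)

/-- The multiplicity of `S ⧸ I` at a prime. -/
noncomputable def mult (I : Ideal (MvPolynomial (Fin (n + 1)) k))
    (q : PrimeSpectrum (MvPolynomial (Fin (n + 1)) k)) : ℕ∞ :=
  Module.length (Localization.AtPrime q.asIdeal)
    (LocalizedModule q.asIdeal.primeCompl (MvPolynomial (Fin (n + 1)) k ⧸ I))

theorem isHP_hpol (I : Ideal S) (hI : I.IsHomogeneous (CohB1.polyGrading n k)) : IsHP I (hpol I) := by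
  obtain ⟨P, m₀, hP⟩ := exists_poly I hI
  exact Classical.epsilon_spec (p := IsHP I) ⟨P, m₀, hP⟩

theorem IsHP.unique {I : Ideal S} {P Q : ℚ[X]} (hP : IsHP I P) (hQ : IsHP I Q) : P = Q := by
  obtain ⟨a, ha⟩ := hP
  obtain ⟨b, hb⟩ := hQ
  refine sub_eq_zero.mp (eq_zero_of_infinite_isRoot _ (Set.Infinite.mono (s := ((↑) : ℕ → ℚ) '' Set.Ici (max a b)) ?_
    ((Set.Ici_infinite _).image Nat.cast_injective.injOn)))
  rintro _ ⟨m, hm, rfl⟩
  show (P - Q).eval (m : ℚ) = 0
  have hm' : a ≤ m ∧ b ≤ m := max_le_iff.mp hm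
  rw [eval_sub, ha m hm'.1, hb m hm'.2, sub_self]

theorem isHP_top : IsHP (⊤ : Ideal S) 0 := by
  refine ⟨0, fun m _ => ?_⟩
  haveI : Subsingleton (↥(CohB1.polyGrading n k m) ⧸
      (Submodule.restrictScalars k (⊤ : Ideal S)).comap (CohB1.polyGrading n k m).subtype) :=
    Submodule.Quotient.subsingleton_iff.mpr (by simp)
  rw [eval_zero, hfun, Module.finrank_zero_of_subsingleton, Nat.cast_zero]

theorem dim_le_zero {I : Ideal S} (hI : I.IsHomogeneous (CohB1.polyGrading n k)) (hP : IsHP I 0) :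
    ringKrullDim (S ⧸ I) ≤ 0 := by
  rcases eq_or_ne I ⊤ with rfl | hne
  · rw [ringKrullDim_eq_bot_of_subsingleton]
    exact bot_le
  obtain ⟨L, _, _, _, hdim, hhs⟩ := exists_local I hI hne
  obtain ⟨R, hR⟩ := Groth.Agent.HSLib.exists_poly_jacobson (A := L) L
  have hd := Groth.Agent.HSLib.supportDim_eq L R hR
  rw [Module.supportDim_self_eq_ringKrullDim, hdim] at hd
  have hdiff : (0 : ℚ[X]) = R.comp (X + C 1) - R := by
    obtain ⟨N, hN⟩ := Filter.eventually_atTop.mp hR
    refine hP.unique ⟨N, fun m hm => ?_⟩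
    have e1 := hN (m + 1) (Nat.le_succ_of_le hm)
    have e2 := hN m hm
    rw [hhs, Finset.sum_range_succ] at e1
    rw [hhs] at e2
    push_cast at e1 e2
    simp only [eval_sub, eval_comp, eval_add, eval_X, eval_C]
    linarith
  rw [← hd]
  by_cases h0 : R.natDegree = 0
  · rw [h0]; exact le_rfl
  exfalso
  obtain ⟨e, he⟩ : ∃ e, R.natDegree = e + 1 := ⟨R.natDegree - 1, by omega⟩
  obtain ⟨-, h2⟩ := shift_degree he (c := (-1 : ℚ)) (by norm_num)
  rw [map_neg, sub_neg_eq_add, ← neg_sub, ← hdiff, neg_zero, leadingCoeff_zero] at h2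
  have hlead : R.leadingCoeff ≠ 0 := leadingCoeff_ne_zero.mpr (ne_zero_of_natDegree_gt (n := 0) (by omega))
  rcases mul_eq_zero.mp h2.symm with h | h
  · exact (show (-1 : ℚ) * ((e : ℚ) + 1) ≠ 0 by
      have : (0 : ℚ) < (e : ℚ) + 1 := by positivity
      intro hh; linarith) h
  · exact hlead h

theorem natDegree_le {I : Ideal S} (hI : I.IsHomogeneous (CohB1.polyGrading n k)) {P : ℚ[X]}
    (hP : IsHP I P) {t : ℕ} (hdim : ringKrullDim (S ⧸ I) ≤ ((t + 1 : ℕ) : WithBot ℕ∞)) :
    P.natDegree ≤ t := by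
  rcases eq_or_ne P 0 with rfl | h0
  · simp
  rw [dim_eq I hI P h0 hP] at hdim
  have : P.natDegree + 1 ≤ t + 1 := by exact_mod_cast hdim
  omega

theorem mult_eq_add (q : PrimeSpectrum S) {I I' p : Ideal S} (a : S) (hle : I ≤ I')
    (hI' : I' = I ⊔ Ideal.span {a}) (hp : ∀ g, g * a ∈ I ↔ g ∈ p) :
    mult I q = mult p q + mult I' q := by
  let f : (S ⧸ p) →ₗ[S] S ⧸ I := Submodule.mapQ p I (LinearMap.toSpanSingleton S S a)
    (fun g hg => show g • a ∈ I from (hp g).mpr hg)
  have hf : Function.Injective f := by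
    rw [← LinearMap.ker_eq_bot, Submodule.eq_bot_iff]
    intro x hx
    obtain ⟨g, rfl⟩ := Submodule.mkQ_surjective _ x
    rw [LinearMap.mem_ker] at hx
    erw [Submodule.mapQ_apply, Submodule.Quotient.mk_eq_zero] at hx
    exact (Submodule.Quotient.mk_eq_zero _).mpr ((hp g).mp hx)
  have hex : Function.Exact f (Submodule.factor hle) := by
    intro y
    obtain ⟨y, rfl⟩ := Submodule.mkQ_surjective _ y
    constructor
    · intro h
      erw [Submodule.factor_mk, Submodule.Quotient.mk_eq_zero] at h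
      have h' : y ∈ I ⊔ Ideal.span {a} := hI' ▸ h
      obtain ⟨b, hb, c, hc, rfl⟩ := Submodule.mem_sup.mp h'
      obtain ⟨g, rfl⟩ := Ideal.mem_span_singleton'.mp hc
      refine ⟨Submodule.Quotient.mk g, ?_⟩
      erw [Submodule.mapQ_apply]
      refine (Submodule.Quotient.eq _).mpr ?_
      show g • a - (b + g * a) ∈ I
      rw [smul_eq_mul, sub_add_eq_sub_sub_swap, sub_self, zero_sub]
      exact neg_mem hb
    · rintro ⟨x, hx⟩
      obtain ⟨g, rfl⟩ := Submodule.mkQ_surjective _ x
      rw [← hx]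
      erw [Submodule.mapQ_apply, Submodule.Quotient.mk_eq_zero]
      rw [hI']
      exact Ideal.mem_sup_right (Ideal.mul_mem_left _ g (Ideal.subset_span rfl))
  exact Module.length_eq_add_of_exact (LocalizedModule.map q.asIdeal.primeCompl f)
    (LocalizedModule.map q.asIdeal.primeCompl (Submodule.factor hle))
    (LocalizedModule.map_injective _ f hf)
    (LocalizedModule.map_surjective _ _ (Submodule.factor_surjective hle))
    (LocalizedModule.map_exact _ f _ hex)

theorem mult_self (q : PrimeSpectrum S) : mult q.asIdeal q = 1 := by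
  haveI : IsSimpleModule (Localization.AtPrime q.asIdeal)
      (LocalizedModule q.asIdeal.primeCompl (S ⧸ q.asIdeal)) := by
    rw [isSimpleModule_iff_toSpanSingleton_surjective]
    refine ⟨⟨LocalizedModule.mk 1 1, 0, fun h => ?_⟩, fun z hz w => ?_⟩
    · rw [← LocalizedModule.zero_mk (1 : q.asIdeal.primeCompl), LocalizedModule.mk_eq] at h
      obtain ⟨u, hu⟩ := h
      simp only [one_smul, smul_zero] at hu
      rw [Submonoid.smul_def, Algebra.smul_def, mul_one] at hu
      exact u.2 (Ideal.Quotient.eq_zero_iff_mem.mp hu)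
    · induction z using LocalizedModule.induction_on with
      | _ x s =>
        induction w using LocalizedModule.induction_on with
        | _ y t =>
          obtain ⟨x, rfl⟩ := Ideal.Quotient.mk_surjective x
          obtain ⟨y, rfl⟩ := Ideal.Quotient.mk_surjective y
          have hx : x ∈ q.asIdeal.primeCompl := fun hxp => hz (by
            rw [Ideal.Quotient.eq_zero_iff_mem.mpr hxp, LocalizedModule.zero_mk])
          refine ⟨Localization.mk (y * (s : S)) (t * ⟨x, hx⟩), ?_⟩
          rw [LinearMap.toSpanSingleton_apply, LocalizedModule.mk_smul_mk, LocalizedModule.mk_eq]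
          refine ⟨1, ?_⟩
          simp only [Submonoid.smul_def, Submonoid.coe_mul, Submonoid.coe_one, one_smul,
            Algebra.smul_def, Ideal.Quotient.algebraMap_eq, ← map_mul]
          congr 1
          ring
  exact Module.length_eq_one _ _

theorem mult_eq_zero (q : PrimeSpectrum S) {I : Ideal S} (h : ¬ I ≤ q.asIdeal) : mult I q = 0 := by
  rw [mult, Module.length_eq_zero_iff]
  refine Module.notMem_support_iff.mp fun hmem => h ?_
  rwa [Module.support_eq_zeroLocus, Ideal.annihilator_quotient, PrimeSpectrum.mem_zeroLocus,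
    SetLike.coe_subset_coe] at hmem

theorem eq_of_dim_le {p q : PrimeSpectrum S} (h : p ≤ q) {t : ℕ}
    (hp : ringKrullDim (S ⧸ p.asIdeal) ≤ (t : WithBot ℕ∞)) (hq : ringKrullDim (S ⧸ q.asIdeal) = (t : WithBot ℕ∞)) :
    p = q := by
  refine h.eq_or_lt.resolve_right fun hlt => ?_
  have h1 := Order.coheight_add_one_le hlt
  rw [← Groth.Agent.VarDim.coheight_eq_ringKrullDim_quotient] at hp hq
  rw [show Order.coheight q = (t : ℕ∞) from WithBot.coe_inj.mp hq] at h1
  have h2 : Order.coheight p ≤ (t : ℕ∞) := WithBot.coe_le_coe.mp hp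
  have h3 : t + 1 ≤ t := by exact_mod_cast h1.trans h2
  omega

/-- A non-unit homogeneous ideal has a homogeneous element with prime colon ideal. -/
theorem exists_prime_colon (I : Ideal S) (hI : I.IsHomogeneous (CohB1.polyGrading n k)) (hne : I ≠ ⊤) :
    ∃ (a : S) (e : ℕ) (p : Ideal S), a.IsHomogeneous e ∧ a ∉ I ∧ p.IsPrime ∧
      p.IsHomogeneous (CohB1.polyGrading n k) ∧ ∀ g, g * a ∈ I ↔ g ∈ p := by
  classical
  let C : Set (Ideal S) := {J | ∃ (a : S) (e : ℕ), a.IsHomogeneous e ∧ a ∉ I ∧ ∀ g, g * a ∈ I ↔ g ∈ J}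
  have hC : C.Nonempty := ⟨I, 1, 0, MvPolynomial.isHomogeneous_one _ _,
    fun h => hne ((Ideal.eq_top_iff_one I).mpr h), fun g => by rw [mul_one]⟩
  obtain ⟨p, ⟨a, e, ha, haI, hp⟩, hmax⟩ := (wellFounded_gt (α := Ideal S)).has_min C hC
  have hhom : p.IsHomogeneous (CohB1.polyGrading n k) := by
    intro i x hx
    rw [Groth.Agent.VarDim.ProjN.proj_apply]
    refine (hp _).mp ?_
    have h := comp_mem I hI ((hp x).mpr hx) (i + e)
    rw [← Groth.Agent.VarDim.ProjN.proj_apply, DirectSum.coe_decompose_mul_of_right_mem_of_le _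
      (show a ∈ CohB1.polyGrading n k e from ha) (Nat.le_add_left e i), Nat.add_sub_cancel,
      Groth.Agent.VarDim.ProjN.proj_apply] at h
    exact h
  refine ⟨a, e, p, ha, haI, Ideal.IsHomogeneous.isPrime_of_homogeneous_mem_or_mem hhom
    (fun h => haI (by simpa using (hp 1).mpr (h ▸ Submodule.mem_top))) ?_, hhom, hp⟩
  intro x y hx hy hxy
  by_cases hy' : y ∈ p
  · exact Or.inr hy'
  obtain ⟨d, hd⟩ := hy
  have hyI : y * a ∉ I := fun h => hy' ((hp y).mp h)
  let J : Ideal S := Submodule.comap (LinearMap.toSpanSingleton S S (y * a)) I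
  have hJ : ∀ g, g * (y * a) ∈ I ↔ g ∈ J := fun g => Iff.rfl
  have hle : p ≤ J := fun g hg => (hJ g).mp (by
    rw [mul_left_comm]
    exact I.mul_mem_left y ((hp g).mpr hg))
  have heq : J = p := by
    by_contra hne'
    exact hmax J ⟨y * a, d + e, (show y.IsHomogeneous d from hd).mul ha, hyI, hJ⟩ (lt_of_le_of_ne hle (Ne.symm hne'))
  left
  rw [← heq, ← hJ, ← mul_assoc]
  exact (hp _).mpr hxy

/-- **Associativity formula**: the degree is the sum of multiplicities times degrees of the
components of the largest dimension. -/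
theorem assoc (t : ℕ) (T : Finset (PrimeSpectrum S))
    (hT : ∀ q ∈ T, ringKrullDim (S ⧸ q.asIdeal) = ((t + 1 : ℕ) : WithBot ℕ∞)) (I : Ideal S) :
    I.IsHomogeneous (CohB1.polyGrading n k) → ringKrullDim (S ⧸ I) ≤ ((t + 1 : ℕ) : WithBot ℕ∞) →
    (∀ q : PrimeSpectrum S, I ≤ q.asIdeal → ringKrullDim (S ⧸ q.asIdeal) = ((t + 1 : ℕ) : WithBot ℕ∞) → q ∈ T) →
    (∀ q ∈ T, mult I q ≠ ⊤) ∧
      (hpol I).coeff t = ∑ q ∈ T, ((mult I q).toNat : ℚ) * (hpol q.asIdeal).coeff t := by
  classical
  induction I using (wellFounded_gt (α := Ideal S)).induction with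
  | _ I ih =>
    intro hI hdim hmem
    rcases eq_or_ne I ⊤ with rfl | hne
    · have h0 : ∀ q : PrimeSpectrum S, mult (⊤ : Ideal S) q = 0 := fun q =>
        mult_eq_zero q fun h => q.2.ne_top (top_le_iff.mp h)
      exact ⟨fun q _ => by rw [h0]; exact ENat.zero_ne_top,
        by rw [(isHP_hpol _ hI).unique isHP_top]; simp [h0]⟩
    obtain ⟨a, e, p, ha, haI, hp, hph, hpa⟩ := exists_prime_colon I hI hne
    have hIp : I ≤ p := fun g hg => (hpa g).mp (I.mul_mem_right a hg)
    let I' : Ideal S := I ⊔ Ideal.span {a}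
    have hlt : I < I' := lt_of_le_of_ne le_sup_left fun h => haI (h.ge (Ideal.mem_sup_right (Ideal.subset_span rfl)))
    have hI'h : I'.IsHomogeneous (CohB1.polyGrading n k) := hI.sup (Ideal.homogeneous_span _ _ (by
      rintro x (rfl : x = a)
      exact ⟨e, ha⟩))
    have hdim' : ∀ J : Ideal S, I ≤ J → ringKrullDim (S ⧸ J) ≤ ((t + 1 : ℕ) : WithBot ℕ∞) := fun J hJ =>
      (ringKrullDim_le_of_surjective (Ideal.Quotient.factor hJ) (Ideal.Quotient.factor_surjective hJ)).trans hdim
    obtain ⟨hfin', hsum'⟩ := ih I' hlt hI'h (hdim' I' le_sup_left) (fun q hq => hmem q (le_sup_left.trans hq))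
    let P : PrimeSpectrum S := ⟨p, hp⟩
    have hpm : ∀ q ∈ T, mult p q = if q = P then 1 else 0 := fun q hq => by
      split_ifs with h
      · subst h; exact mult_self P
      · refine mult_eq_zero q fun hle => h ?_
        exact (eq_of_dim_le (show P ≤ q from hle) (hdim' p hIp) (hT q hq)).symm
    have hadd : ∀ q ∈ T, mult I q = (if q = P then 1 else 0) + mult I' q := fun q hq => by
      rw [← hpm q hq]; exact mult_eq_add q a le_sup_left rfl hpa
    have hfin : ∀ q ∈ T, mult I q ≠ ⊤ := fun q hq => by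
      rw [hadd q hq]
      exact WithTop.add_ne_top.mpr ⟨by split_ifs <;> exact ENat.natCast_ne_top _, hfin' q hq⟩
    refine ⟨hfin, ?_⟩
    have hP : hpol I = hpol I' + (hpol p).comp (X - C (e : ℚ)) := by
      obtain ⟨m₁, h1⟩ := isHP_hpol I' hI'h
      obtain ⟨m₂, h2⟩ := isHP_hpol p hph
      refine (isHP_hpol I hI).unique ⟨max m₁ (m₂ + e), fun m hm => ?_⟩
      have hm' : m₁ ≤ m ∧ m₂ + e ≤ m := max_le_iff.mp hm
      rw [eval_add, eval_comp, eval_sub, eval_X, eval_C, ← Nat.cast_sub (by omega), h1 m hm'.1,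
        h2 (m - e) (by omega), ← hfun_sup_span' I p hI ha hpa m (by omega), Nat.cast_add]
    have hdp : (hpol p).natDegree ≤ t := natDegree_le hph (isHP_hpol p hph) (hdim' p hIp)
    have hcomp : ((hpol p).comp (X - C (e : ℚ))).coeff t = (hpol p).coeff t := by
      rcases hdp.eq_or_lt with h | h
      · have hd : ((hpol p).comp (X - C (e : ℚ))).natDegree = t := by
          rw [natDegree_comp, natDegree_X_sub_C, mul_one, h]
        conv_lhs => rw [← hd, coeff_natDegree, leadingCoeff_comp (by rw [natDegree_X_sub_C]; exact one_ne_zero),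
          leadingCoeff_X_sub_C, one_pow, mul_one]
        rw [← h, coeff_natDegree]
      · rw [coeff_eq_zero_of_natDegree_lt h, coeff_eq_zero_of_natDegree_lt]
        rwa [natDegree_comp, natDegree_X_sub_C, mul_one]
    have hterm : ∀ q ∈ T, ((mult I q).toNat : ℚ) * (hpol q.asIdeal).coeff t =
        (if q = P then (hpol q.asIdeal).coeff t else 0) + ((mult I' q).toNat : ℚ) * (hpol q.asIdeal).coeff t := by
      intro q hq
      rw [hadd q hq, ENat.toNat_add (by split_ifs <;> exact ENat.natCast_ne_top _) (hfin' q hq)]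
      split_ifs <;> simp [add_mul]
    rw [Finset.sum_congr rfl hterm, Finset.sum_add_distrib, ← hsum', Finset.sum_ite_eq', hP, coeff_add, hcomp,
      add_comm]
    congr 1
    split_ifs with hPT
    · rfl
    · by_contra hne0
      apply hPT
      refine hmem P hIp ?_
      have hd : (hpol p).natDegree = t := le_antisymm hdp (le_natDegree_of_ne_zero hne0)
      have h0 : hpol p ≠ 0 := fun h => hne0 (by rw [h, coeff_zero])
      rw [show P.asIdeal = p from rfl, dim_eq p hph _ h0 (isHP_hpol p hph), hd]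
      norm_cast

end Groth.Agent.HilbGr
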