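import Mathlib

/-!
Abstract lemmas: quotients by kernels, and lengths of powers at a rational maximal ideal.
-/

set_option autoImplicit false

universe u v

namespace Groth.Agent.HilbGr

variable {k : Type u} [Field k]

theorem nonempty_quot_equiv {A : Type u} [CommRing A] [Algebra k A] (J : Ideal A) {W : Type v}
    [AddCommMonoid W] [Module k W] (f : A →ₗ[k] W) (hf : Function.Surjective f)
    (hker : ∀ x, f x = 0 ↔ x ∈ J) : Nonempty ((A ⧸ J) ≃ₗ[k] W) := by
  letI := Module.addCommMonoidToAddCommGroup k (M := W)
  have h : LinearMap.ker f = J.restrictScalars k := by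
    ext x
    exact hker x
  exact ⟨((Submodule.Quotient.restrictScalarsEquiv k J).symm.trans
    (Submodule.quotEquivOfEq _ _ h.symm)).trans (f.quotKerEquivOfSurjective hf)⟩

/-- At a rational maximal ideal, lengths of truncations of the local ring are dimensions. -/
theorem length_localization_pow {A L : Type u} [CommRing A] [Algebra k A] (P : Ideal A) [P.IsMaximal]
    [CommRing L] [IsLocalRing L] [Algebra A L] [Algebra k L] [IsScalarTower k A L]
    [IsLocalization.AtPrime L P] (hfin : ∀ t, Module.Finite k (A ⧸ P ^ t))
    (hrat : Module.finrank k (A ⧸ P) = 1) (t : ℕ) :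
    Module.length L (L ⧸ IsLocalRing.maximalIdeal L ^ t) = (Module.finrank k (A ⧸ P ^ t) : ℕ∞) := by
  haveI : IsLocalHom (algebraMap k L) := ⟨fun a ha => by
    rcases eq_or_ne a 0 with rfl | h0
    · rw [map_zero] at ha; exact absurd ha not_isUnit_zero
    · exact isUnit_iff_ne_zero.mpr h0⟩
  have key : ∀ t, Module.length k (L ⧸ IsLocalRing.maximalIdeal L ^ t) =
      (Module.finrank k (A ⧸ P ^ t) : ℕ∞) := by
    intro t
    let φ : A →ₗ[k] L ⧸ IsLocalRing.maximalIdeal L ^ t :=
      ((Ideal.Quotient.mkₐ k (IsLocalRing.maximalIdeal L ^ t)).comp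
        (IsScalarTower.toAlgHom k A L)).toLinearMap
    have hker : ∀ x, φ x = 0 ↔ x ∈ P ^ t := fun x => by
      rw [← IsLocalization.AtPrime.under_maximalIdeal_pow (R := A) P L t]
      exact Ideal.Quotient.eq_zero_iff_mem
    have hφ : Function.Surjective φ := by
      intro y
      obtain ⟨y, rfl⟩ := Ideal.Quotient.mk_surjective y
      obtain ⟨a, s, rfl⟩ := IsLocalization.exists_mk'_eq P.primeCompl y
      have hcop : IsCoprime (Ideal.span {(s : A)}) (P ^ t) := by
        refine IsCoprime.pow_right ?_
        rw [Ideal.isCoprime_iff_sup_eq, sup_comm]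
        refine (inferInstance : P.IsMaximal).1.2 _ (lt_of_le_of_ne le_sup_left fun he => ?_)
        exact s.2 (he.ge (Ideal.mem_sup_right (Ideal.mem_span_singleton_self _)))
      obtain ⟨u, hu, w, hw, huw⟩ := Ideal.isCoprime_iff_exists.mp hcop
      obtain ⟨c, rfl⟩ := Ideal.mem_span_singleton'.mp hu
      refine ⟨a * c, ?_⟩
      have hwL : algebraMap A L w ∈ IsLocalRing.maximalIdeal L ^ t := by
        rw [← Ideal.mem_comap]
        exact (IsLocalization.AtPrime.under_maximalIdeal_pow (R := A) P L t).ge hw
      show Ideal.Quotient.mk _ (algebraMap A L (a * c)) = _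
      rw [Ideal.Quotient.eq]
      have hmk : algebraMap A L (a * c) - IsLocalization.mk' L a s =
          -(IsLocalization.mk' L a s * algebraMap A L w) := by
        have h1 : IsLocalization.mk' L a s * algebraMap A L (s : A) = algebraMap A L a :=
          IsLocalization.mk'_spec L a s
        have h2 : algebraMap A L c * algebraMap A L (s : A) + algebraMap A L w = 1 := by
          rw [← map_mul, ← map_add, huw, map_one]
        rw [map_mul]
        linear_combination (IsLocalization.mk' L a s) * h2 - algebraMap A L c * h1
      rw [hmk]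
      exact neg_mem (Ideal.mul_mem_left _ _ hwL)
    obtain ⟨e⟩ := nonempty_quot_equiv (P ^ t) φ hφ hker
    haveI := hfin t
    haveI := Module.Finite.equiv e
    rw [Module.length_eq_finrank, e.finrank_eq]
  have hone : Module.length (IsLocalRing.ResidueField k) (IsLocalRing.ResidueField L) = 1 := by
    have h := key 1
    have hsimp : IsSimpleModule L (L ⧸ IsLocalRing.maximalIdeal L) :=
      isSimpleModule_iff_isCoatom.2 (IsLocalRing.maximalIdeal.isMaximal L).out
    rw [IsLocalRing.length_restrictScalars k L, pow_one, pow_one, hrat,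
      Module.length_eq_one_iff.mpr hsimp, one_mul] at h
    simpa using h
  have hk := key t
  rwa [IsLocalRing.length_restrictScalars k L, hone, mul_one] at hk

end Groth.Agent.HilbGr
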