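import Mathlib
import Groth.Prelude.Def_CohB1
import Groth.Agent.VarDim.Proj
import Groth.Agent.HSLib.Samuel
import Groth.Agent.HilbGr.Abs

/-!
The Hilbert function of a homogeneous quotient of a polynomial ring, and its degree.
-/

set_option autoImplicit false

universe u

open MvPolynomial

namespace Groth.Agent.HilbGr

variable {k : Type u} [Field k] {n : ℕ}

local notation "S" => MvPolynomial (Fin (n + 1)) k
local notation "𝒜" => CohB1.polyGrading n k

theorem finite_piece (j : ℕ) : Module.Finite k ↥(CohB1.polyGrading n k j) := by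
  classical
  rw [Module.Finite.iff_fg]
  show (MvPolynomial.homogeneousSubmodule (Fin (n + 1)) k j).FG
  rw [homogeneousSubmodule_eq_finsupp_supported, AddMonoidAlgebra.supported_eq_span_single]
  exact Submodule.fg_span (Set.Finite.image _ (Finsupp.finite_of_degree_eq j))

/-- The Hilbert function of `S ⧸ I`. -/
noncomputable def hfun (I : Ideal (MvPolynomial (Fin (n + 1)) k)) (j : ℕ) : ℕ :=
  Module.finrank k (↥(CohB1.polyGrading n k j) ⧸
    (Submodule.restrictScalars k I).comap (CohB1.polyGrading n k j).subtype)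

theorem hfun_cast (I : Ideal S) (j : ℕ) : (hfun I j : ℚ) =
    (Module.finrank k ↥(CohB1.polyGrading n k j) : ℚ) -
      Module.finrank k ↥(Submodule.restrictScalars k I ⊓ CohB1.polyGrading n k j) := by
  haveI := finite_piece (k := k) (n := n) j
  have h := ((Submodule.restrictScalars k I).comap (CohB1.polyGrading n k j).subtype).finrank_quotient_add_finrank
  have e : ((Submodule.restrictScalars k I).comap (CohB1.polyGrading n k j).subtype) ≃ₗ[k]
      ↥(Submodule.restrictScalars k I ⊓ CohB1.polyGrading n k j) :=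
    { toFun := fun z => ⟨z.1.1, ⟨z.2, z.1.2⟩⟩
      invFun := fun z => ⟨⟨z.1, z.2.2⟩, z.2.1⟩
      left_inv := fun _ => rfl
      right_inv := fun _ => rfl
      map_add' := fun _ _ => rfl
      map_smul' := fun _ _ => rfl }
  rw [e.finrank_eq] at h
  rw [hfun, eq_sub_iff_add_eq]
  exact_mod_cast h

theorem vertex_eq_idealOfVars :
    Groth.Agent.VarDim.ProjN.vertex k n = idealOfVars (Fin (n + 1)) k := by
  refine le_antisymm (fun f hf => ?_) (Ideal.span_le.mpr ?_)
  · rw [← pow_one (idealOfVars (Fin (n + 1)) k), mem_pow_idealOfVars_iff']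
    intro x hx
    have : x = 0 := (Finsupp.degree_eq_zero_iff x).mp (by omega)
    subst this
    exact hf
  · rintro _ ⟨i, rfl⟩
    exact constantCoeff_X k i

theorem comp_mem (I : Ideal S) (hI : I.IsHomogeneous 𝒜) {f : S} (hf : f ∈ I) (j : ℕ) :
    homogeneousComponent j f ∈ I := by
  have := hI j hf
  rwa [Groth.Agent.VarDim.ProjN.proj_apply] at this

/-- The components below a bound. -/
noncomputable def truncMap (I : Ideal (MvPolynomial (Fin (n + 1)) k)) (t : ℕ) :
    MvPolynomial (Fin (n + 1)) k →ₗ[k] (j : Fin t) → (↥(CohB1.polyGrading n k j) ⧸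
      (Submodule.restrictScalars k I).comap (CohB1.polyGrading n k (j : ℕ)).subtype) :=
  LinearMap.pi fun j => (Submodule.mkQ _).comp
    ((homogeneousComponent (j : ℕ)).codRestrict (CohB1.polyGrading n k j)
      (fun f => homogeneousComponent_mem (j : ℕ) f))

theorem truncMap_eq_zero_iff (I : Ideal S) (hI : I.IsHomogeneous 𝒜) (t : ℕ) (f : S) :
    truncMap I t f = 0 ↔ f ∈ I ⊔ idealOfVars (Fin (n + 1)) k ^ t := by
  classical
  have h0 : truncMap I t f = 0 ↔ ∀ j : Fin t, homogeneousComponent (j : ℕ) f ∈ I := by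
    rw [funext_iff]
    refine forall_congr' fun j => ?_
    simp only [truncMap, LinearMap.pi_apply, LinearMap.comp_apply, Submodule.mkQ_apply, Pi.zero_apply]
    rw [Submodule.Quotient.mk_eq_zero]
    exact Iff.rfl
  rw [h0]
  constructor
  · intro h
    rw [Submodule.mem_sup]
    refine ⟨∑ j : Fin t, homogeneousComponent (j : ℕ) f, I.sum_mem fun j _ => h j,
      f - ∑ j : Fin t, homogeneousComponent (j : ℕ) f, ?_, by ring⟩
    rw [mem_pow_idealOfVars_iff']
    intro x hx
    rw [coeff_sub, coeff_sum, Finset.sum_eq_single (⟨x.degree, hx⟩ : Fin t), coeff_homogeneousComponent,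
      if_pos rfl, sub_self]
    · intro b _ hb
      rw [coeff_homogeneousComponent, if_neg]
      exact fun he => hb (Fin.ext he.symm)
    · exact fun hh => absurd (Finset.mem_univ _) hh
  · intro h j
    obtain ⟨a, ha, b, hb, rfl⟩ := Submodule.mem_sup.mp h
    rw [map_add]
    refine I.add_mem (comp_mem I hI ha _) ?_
    rw [show homogeneousComponent (j : ℕ) b = 0 from ?_]
    · exact I.zero_mem
    ext x
    rw [coeff_homogeneousComponent, coeff_zero]
    split
    · next he => exact (mem_pow_idealOfVars_iff' t b).mp hb x (he ▸ j.2)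
    · rfl

theorem truncMap_surjective (I : Ideal S) (t : ℕ) : Function.Surjective (truncMap I t) := by
  classical
  intro y
  choose g hg using fun j : Fin t => Submodule.mkQ_surjective _ (y j)
  refine ⟨∑ i : Fin t, (g i : S), funext fun j => ?_⟩
  simp only [truncMap, LinearMap.pi_apply, LinearMap.comp_apply]
  rw [← hg j]
  congr 1
  apply Subtype.ext
  show homogeneousComponent (j : ℕ) (∑ i : Fin t, (g i : S)) = (g j : S)
  rw [map_sum, Finset.sum_eq_single j]
  · rw [homogeneousComponent_of_mem (g j).2, if_pos rfl]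
  · intro b _ hb
    rw [homogeneousComponent_of_mem (g b).2, if_neg]
    exact fun he => hb (Fin.ext he.symm)
  · exact fun hh => absurd (Finset.mem_univ _) hh

theorem finrank_trunc (I : Ideal S) (hI : I.IsHomogeneous 𝒜) (t : ℕ) :
    Module.finrank k (S ⧸ (I ⊔ idealOfVars (Fin (n + 1)) k ^ t)) =
      ∑ j ∈ Finset.range t, hfun I j := by
  haveI := fun j => finite_piece (k := k) (n := n) j
  obtain ⟨e⟩ := nonempty_quot_equiv (k := k) (A := S) (I ⊔ idealOfVars (Fin (n + 1)) k ^ t) (truncMap I t) (truncMap_surjective I t) (truncMap_eq_zero_iff I hI t)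
  haveI hfree : ∀ i : Fin t, Module.Free k (↥(CohB1.polyGrading n k i) ⧸
      (Submodule.restrictScalars k I).comap (CohB1.polyGrading n k (i : ℕ)).subtype) :=
    fun i => Module.Free.of_divisionRing k _
  rw [e.finrank_eq, @Module.finrank_pi_fintype k _ _ (Fin t) _ _ _ _ hfree (fun i => inferInstance), Finset.sum_range]
  rfl

theorem finite_trunc (I : Ideal S) (hI : I.IsHomogeneous 𝒜) (t : ℕ) :
    Module.Finite k (S ⧸ (I ⊔ idealOfVars (Fin (n + 1)) k ^ t)) := by
  haveI := fun j => finite_piece (k := k) (n := n) j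
  obtain ⟨e⟩ := nonempty_quot_equiv (k := k) (A := S) (I ⊔ idealOfVars (Fin (n + 1)) k ^ t) (truncMap I t) (truncMap_surjective I t) (truncMap_eq_zero_iff I hI t)
  exact Module.Finite.equiv e.symm

/-- The Samuel function at the vertex is the summed Hilbert function. -/
theorem exists_local (I : Ideal S) (hI : I.IsHomogeneous 𝒜) (hne : I ≠ ⊤) :
    ∃ (L : Type u) (_ : CommRing L) (_ : IsNoetherianRing L) (_ : IsLocalRing L),
      ringKrullDim L = ringKrullDim (S ⧸ I) ∧
      ∀ t, Groth.Agent.HSLib.hs (Ring.jacobson L) L t = ∑ j ∈ Finset.range t, hfun I j := by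
  classical
  set V := Groth.Agent.VarDim.ProjN.vertex k n
  have hle : I ≤ V := Groth.Agent.VarDim.ProjN.le_vertex_of_isHomogeneous hI hne
  have hsurj : Function.Surjective (Ideal.Quotient.mk I) := Ideal.Quotient.mk_surjective
  let P : Ideal (S ⧸ I) := V.map (Ideal.Quotient.mk I)
  have hcomap : P.comap (Ideal.Quotient.mk I) = V := by
    rw [Ideal.comap_map_of_surjective _ hsurj, sup_eq_left, ← RingHom.ker_eq_comap_bot, Ideal.mk_ker]
    exact hle
  haveI hPmax : P.IsMaximal := by
    refine (Ideal.map_eq_top_or_isMaximal_of_surjective _ hsurj (inferInstance : V.IsMaximal)).resolve_left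
      fun h => ?_
    have h' : P = ⊤ := h
    rw [h', Ideal.comap_top] at hcomap
    exact (inferInstance : V.IsMaximal).ne_top hcomap.symm
  let L := Localization.AtPrime P
  haveI hnL : IsNoetherianRing L := IsLocalization.isNoetherianRing P.primeCompl L inferInstance
  refine ⟨L, inferInstance, hnL, inferInstance, ?_, fun t => ?_⟩
  · rw [IsLocalization.AtPrime.ringKrullDim_eq_height P L]
    refine le_antisymm (Ideal.height_le_ringKrullDim_of_ne_top hPmax.ne_top) ?_
    haveI : Nonempty (PrimeSpectrum (S ⧸ I)) := ⟨⟨P, hPmax.isPrime⟩⟩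
    rw [ringKrullDim, Order.krullDim_eq_iSup_coheight_of_nonempty, WithBot.coe_le_coe]
    refine iSup_le fun q => ?_
    obtain ⟨p, hp, hpq⟩ := Ideal.exists_minimalPrimes_le (bot_le : (⊥ : Ideal (S ⧸ I)) ≤ q.asIdeal)
    haveI := hp.1.1
    have hpI : p.comap (Ideal.Quotient.mk I) ∈ I.minimalPrimes := by
      have h := Ideal.minimalPrimes_comap_of_surjective hsurj (I := (⊥ : Ideal (S ⧸ I))) hp
      rwa [← RingHom.ker_eq_comap_bot, Ideal.mk_ker] at h
    have hpV : p.comap (Ideal.Quotient.mk I) ≤ V := Groth.Agent.VarDim.ProjN.le_vertex_of_isHomogeneous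
      (Groth.Agent.VarDim.ProjN.minimalPrimes_isHomogeneous hI hpI) hpI.1.1.ne_top
    have hpP : p ≤ P := by
      rw [← Ideal.map_comap_of_surjective _ hsurj p]
      exact Ideal.map_mono hpV
    have hmono := Groth.Agent.VarDim.height_add_coheight_mono k
      (q := (⟨p, inferInstance⟩ : PrimeSpectrum (S ⧸ I))) (p := ⟨P, hPmax.isPrime⟩) hpP
    have hc0 : Order.coheight (⟨P, hPmax.isPrime⟩ : PrimeSpectrum (S ⧸ I)) = 0 :=
      Order.coheight_eq_zero.mpr fun z hz => (hPmax.eq_of_le z.2.ne_top hz).ge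
    rw [hc0, add_zero, ← PrimeSpectrum.height_eq_orderHeight (⟨P, hPmax.isPrime⟩ : PrimeSpectrum (S ⧸ I))] at hmono
    exact ((Order.coheight_anti (show (⟨p, inferInstance⟩ : PrimeSpectrum (S ⧸ I)) ≤ q from hpq)).trans
      le_add_self).trans hmono
  · have hV : V = idealOfVars (Fin (n + 1)) k := vertex_eq_idealOfVars
    have hP : ∀ t, P ^ t = (V ^ t).map (Ideal.Quotient.mkₐ k I) := fun t => (Ideal.map_pow _ _ _).symm
    have e : ∀ t, Nonempty (((S ⧸ I) ⧸ P ^ t) ≃ₗ[k] S ⧸ (I ⊔ idealOfVars (Fin (n + 1)) k ^ t)) := fun t =>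
      ⟨((Ideal.quotientEquivAlgOfEq k (hP t)).trans ((DoubleQuot.quotQuotEquivQuotSupₐ k I (V ^ t)).trans
        (Ideal.quotientEquivAlgOfEq k (by rw [hV])))).toLinearEquiv⟩
    have hfin : ∀ t, Module.Finite k ((S ⧸ I) ⧸ P ^ t) := fun t => by
      haveI := finite_trunc I hI t
      obtain ⟨e⟩ := e t
      exact Module.Finite.equiv e.symm
    have hdimk : ∀ t, Module.finrank k ((S ⧸ I) ⧸ P ^ t) = ∑ j ∈ Finset.range t, hfun I j := fun t => by
      obtain ⟨e⟩ := e t
      rw [e.finrank_eq, finrank_trunc I hI t]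
    have h1 : Module.finrank k ((S ⧸ I) ⧸ P) = 1 := by
      obtain ⟨f⟩ := nonempty_quot_equiv (k := k) V ((MvPolynomial.lcoeff k 0))
        (fun c => ⟨C c, by simp⟩) (fun x => Iff.rfl)
      exact (((DoubleQuot.quotQuotEquivQuotSupₐ k I V).trans
        (Ideal.quotientEquivAlgOfEq k (sup_eq_right.mpr hle))).toLinearEquiv.finrank_eq.trans f.finrank_eq).trans
        (Module.finrank_self k)
    have hk := length_localization_pow (k := k) (L := L) P hfin h1 t
    have hjac : Ring.jacobson L = IsLocalRing.maximalIdeal L := IsLocalRing.ringJacobson_eq_maximalIdeal L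
    have htop : (IsLocalRing.maximalIdeal L ^ t) • (⊤ : Submodule L L) = IsLocalRing.maximalIdeal L ^ t := by
      rw [Ideal.smul_eq_mul, Ideal.mul_top]
    rw [Groth.Agent.HSLib.hs, hjac, htop, hk, hdimk, ENat.toNat_natCast]

end Groth.Agent.HilbGr
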