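import Groth.Agent.HilbGr.Section
import Groth.Agent.CotTLib.CI

/-!
Homogeneous complete intersections of points.
-/

set_option autoImplicit false

universe u

open MvPolynomial

namespace Groth.Agent.HilbGr

variable {k : Type u} [Field k] {n : ℕ}

local notation "S" => MvPolynomial (Fin (n + 1)) k

theorem mem_of_mul_mem (J : Ideal S) (hJ : J.IsHomogeneous (CohB1.polyGrading n k)) {s g : S}
    (hs : constantCoeff s ≠ 0) (h : s * g ∈ J) : g ∈ J := by
  classical
  suffices ∀ m, homogeneousComponent m g ∈ J by
    rw [← sum_homogeneousComponent g]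
    exact J.sum_mem fun m _ => this m
  intro m
  induction m using Nat.strong_induction_on with
  | _ m ih =>
    let c := C (constantCoeff s) (σ := Fin (n + 1))
    -- split `g` below `m` and from `m` on
    let lo := ∑ i ∈ Finset.range m, homogeneousComponent i g
    have hlo : lo ∈ J := J.sum_mem fun i hi => ih i (Finset.mem_range.mp hi)
    have h' : s * (g - lo) ∈ J := by
      rw [mul_sub]
      exact J.sub_mem h (J.mul_mem_left _ hlo)
    have hmem := comp_mem J hJ h' m
    have key : homogeneousComponent m (s * (g - lo)) = c * homogeneousComponent m g := by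
      have hg : g - lo ∈ idealOfVars (Fin (n + 1)) k ^ m := by
        rw [mem_pow_idealOfVars_iff']
        intro x hx
        rw [coeff_sub, coeff_sum, Finset.sum_eq_single x.degree, coeff_homogeneousComponent, if_pos rfl, sub_self]
        · intro b _ hb
          rw [coeff_homogeneousComponent, if_neg (Ne.symm hb)]
        · exact fun hh => absurd (Finset.mem_range.mpr hx) hh
      have hs' : s - c ∈ idealOfVars (Fin (n + 1)) k := by
        rw [← vertex_eq_idealOfVars]
        show constantCoeff (s - c) = 0
        rw [map_sub, constantCoeff_C, sub_self]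
      have hprod : (s - c) * (g - lo) ∈ idealOfVars (Fin (n + 1)) k ^ (m + 1) := by
        rw [pow_succ']
        exact Ideal.mul_mem_mul hs' hg
      have h0 : homogeneousComponent m ((s - c) * (g - lo)) = 0 := by
        ext x
        rw [coeff_homogeneousComponent, coeff_zero]
        split
        · next he => exact (mem_pow_idealOfVars_iff' (m + 1) _).mp hprod x (by omega)
        · rfl
      have hlo0 : homogeneousComponent m lo = 0 := by
        rw [map_sum]
        refine Finset.sum_eq_zero fun i hi => ?_
        rw [homogeneousComponent_of_mem (homogeneousComponent_mem i g), if_neg]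
        exact (Finset.mem_range.mp hi).ne'
      rw [show s * (g - lo) = (s - c) * (g - lo) + c * (g - lo) by ring, map_add, h0, zero_add,
        homogeneousComponent_C_mul, map_sub, hlo0, sub_zero]
    rw [key] at hmem
    have := J.mul_mem_left (C (constantCoeff s)⁻¹) hmem
    rwa [← mul_assoc, ← map_mul, inv_mul_cancel₀ hs, map_one, one_mul] at this

/-- Homogeneous polynomials cutting a zero-dimensional projective scheme form a regular sequence. -/
theorem regular_of_dim_one (f : Fin n → S) (d : Fin n → ℕ) (hd : ∀ i, 1 ≤ d i)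
    (hf : ∀ i, (f i).IsHomogeneous (d i))
    (hdim : ringKrullDim (S ⧸ Ideal.span (Set.range f)) = 1) (i : Fin n) (g : S)
    (hg : g * f i ∈ Ideal.span (f '' {j | j < i})) : g ∈ Ideal.span (f '' {j | j < i}) := by
  classical
  set V := Groth.Agent.VarDim.ProjN.vertex k n
  have hfV : ∀ j, f j ∈ V := fun j => by
    show constantCoeff (f j) = 0
    exact (hf j).coeff_eq_zero (by simp; have := hd j; omega)
  let L := Localization.AtPrime V
  haveI : IsRegularLocalRing L := IsRegularRing.isRegularLocalRing_localization (R := S) V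
  let φ := algebraMap S L
  let J : Ideal S := Ideal.span (Set.range f)
  have hmax : ∀ r ∈ List.ofFn (φ ∘ f), r ∈ IsLocalRing.maximalIdeal L := by
    intro r hr
    obtain ⟨j, rfl⟩ := List.mem_ofFn.mp hr
    exact (IsLocalization.AtPrime.to_map_mem_maximal_iff L V (f j)).mpr (hfV j)
  have hdimL : ringKrullDim L = (n + 1 : ℕ) := by
    have h := Groth.Agent.VarDim.ProjN.height_add_coheight_pp (k := k) (n := n)
      (Groth.Agent.VarDim.ProjN.vertexPoint k n)
    rw [Groth.Agent.VarDim.ProjN.coheight_vertexPoint, add_zero,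
      ← PrimeSpectrum.height_eq_orderHeight] at h
    rw [IsLocalization.AtPrime.ringKrullDim_eq_height V L]
    exact congrArg _ h
  have hofList : Ideal.ofList (List.ofFn (φ ∘ f)) = J.map φ := by
    rw [Ideal.map_span, ← Set.range_comp]
    exact congrArg Ideal.span (Set.ext fun x => List.mem_ofFn)
  have hle : ringKrullDim (L ⧸ Ideal.ofList (List.ofFn (φ ∘ f))) ≤ 1 := by
    rw [hofList, ← hdim]
    refine Order.krullDim_le_of_strictMono
      (PrimeSpectrum.comap (algebraMap (S ⧸ J) (L ⧸ J.map φ))) ?_
    exact Monotone.strictMono_of_injective (fun a b hab => Ideal.comap_mono hab)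
      (PrimeSpectrum.localization_comap_injective (L ⧸ J.map φ)
        (Algebra.algebraMapSubmonoid (S ⧸ J) V.primeCompl))
  have hdimeq : ringKrullDim (L ⧸ Ideal.ofList (List.ofFn (φ ∘ f))) = 1 := by
    have hge := ringKrullDim_le_ringKrullDim_quotient_add_card (List.ofFn (φ ∘ f)).toFinset (fun r hr => by
      rw [IsLocalRing.ringJacobson_eq_maximalIdeal]
      exact hmax r (List.mem_toFinset.mp hr))
    rw [hdimL, show ((List.ofFn (φ ∘ f)).toFinset : Set L) = {r | r ∈ List.ofFn (φ ∘ f)} from
      List.coe_toFinset _] at hge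
    have hcard : (List.ofFn (φ ∘ f)).toFinset.card ≤ n := (List.toFinset_card_le _).trans (by simp)
    have hne : ringKrullDim (L ⧸ Ideal.ofList (List.ofFn (φ ∘ f))) ≠ ⊥ := by
      haveI := Ideal.Quotient.nontrivial_iff.2 (show Ideal.ofList (List.ofFn (φ ∘ f)) ≠ ⊤ from fun e =>
        (IsLocalRing.maximalIdeal.isMaximal L).ne_top (top_le_iff.1 (e ▸ Ideal.span_le.2 hmax)))
      exact Order.bot_lt_krullDim.ne'
    change _ ≤ ringKrullDim (L ⧸ Ideal.ofList (List.ofFn (φ ∘ f))) + _ at hge
    generalize ringKrullDim (L ⧸ Ideal.ofList (List.ofFn (φ ∘ f))) = D at hle hge hne ⊢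
    induction D using WithBot.recBotCoe with
    | bot => exact absurd rfl hne
    | coe D =>
      induction D using ENat.recTopCoe with
      | top =>
        have htop : (⊤ : ℕ∞) ≤ 1 := WithBot.coe_le_coe.mp hle
        exact absurd htop (by simp)
      | coe D =>
        have h1 : D ≤ 1 := by exact_mod_cast hle
        have h2 : n + 1 ≤ D + (List.ofFn (φ ∘ f)).toFinset.card := by exact_mod_cast hge
        have h3 : D = 1 := by omega
        rw [h3]; rfl
  have hreg := Groth.Agent.CotTLib.isWeaklyRegular_of_dim (List.ofFn (φ ∘ f)) hmax (by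
    rw [hdimeq, hdimL, List.length_ofFn]
    norm_cast)
  have hi : i.1 < (List.ofFn (φ ∘ f)).length := by rw [List.length_ofFn]; exact i.2
  have htake : Ideal.ofList ((List.ofFn (φ ∘ f)).take i.1) = (Ideal.span (f '' {j | j < i})).map φ := by
    rw [Ideal.map_span, Set.image_image]
    refine congrArg Ideal.span (Set.ext fun y => ?_)
    simp only [Set.mem_setOf_eq, List.mem_take_iff_getElem, List.getElem_ofFn, Set.mem_image]
    constructor
    · rintro ⟨j, hj, rfl⟩
      exact ⟨⟨j, by simp only [List.length_ofFn] at hj; omega⟩, Fin.lt_def.2 (lt_min_iff.1 hj).1, rfl⟩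
    · rintro ⟨j, hj, rfl⟩
      exact ⟨j.1, lt_min hj (by rw [List.length_ofFn]; exact j.2), rfl⟩
  have hstep := (RingTheory.Sequence.isWeaklyRegular_iff_Fin L _).1 hreg ⟨i.1, hi⟩
  rw [htake] at hstep
  have hgL : φ g ∈ (Ideal.span (f '' {j | j < i})).map φ := by
    have h0 := isSMulRegular_iff_right_eq_zero_of_smul.mp hstep (Submodule.Quotient.mk (φ g)) (by
      rw [← Submodule.Quotient.mk_smul, Submodule.Quotient.mk_eq_zero, Ideal.smul_eq_mul, Ideal.mul_top,
        smul_eq_mul, Fin.getElem_fin, List.getElem_ofFn]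
      show φ (f i) * φ g ∈ _
      rw [← map_mul, mul_comm]
      exact Ideal.mem_map_of_mem φ hg)
    rwa [Submodule.Quotient.mk_eq_zero, Ideal.smul_eq_mul, Ideal.mul_top] at h0
  obtain ⟨s, hs, hsg⟩ := (IsLocalization.algebraMap_mem_map_algebraMap_iff V.primeCompl L _ _).mp hgL
  refine mem_of_mul_mem _ (Ideal.homogeneous_span _ _ ?_) (show constantCoeff s ≠ 0 from hs) hsg
  rintro _ ⟨j, -, rfl⟩
  exact ⟨d j, hf j⟩

theorem finrank_piece (m : ℕ) :
    Module.finrank k ↥(CohB1.polyGrading n k m) = Nat.choose (m + n) n := by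
  classical
  let T : Set (Fin (n + 1) →₀ ℕ) := {e | e.degree = m}
  let e : {a // a ∈ (Finset.univ : Finset (Fin (n + 1))).finsuppAntidiag m} ≃ T :=
    Equiv.subtypeEquivRight fun a => by simp [T, Finset.mem_finsuppAntidiag, Finsupp.degree_eq_sum]
  haveI : Fintype T := Fintype.ofEquiv _ e
  let φ : homogeneousSubmodule (Fin (n + 1)) k m ≃ₗ[k] (T →₀ k) :=
    (LinearEquiv.ofEq _ _ (homogeneousSubmodule_eq_finsupp_supported (σ := Fin (n + 1)) (R := k) m)).trans
      (AddMonoidAlgebra.supportedEquivFinsupp T)
  show Module.finrank k ↥(homogeneousSubmodule (Fin (n + 1)) k m) = _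
  rw [φ.finrank_eq, Module.finrank_finsupp_self, ← Fintype.card_congr e, Fintype.card_coe,
    Finset.card_finsuppAntidiag_nat_eq_choose, Finset.card_univ, Fintype.card_fin,
    show n + 1 + m - 1 = m + n by omega, Nat.choose_symm_add]

/-- The Hilbert function of a complete intersection of points is the product of the degrees. -/
theorem hfun_ci (f : Fin n → S) (d : Fin n → ℕ) (hd : ∀ i, 1 ≤ d i)
    (hf : ∀ i, (f i).IsHomogeneous (d i))
    (hdim : ringKrullDim (S ⧸ Ideal.span (Set.range f)) = 1) :
    ∃ m₀ : ℕ, ∀ m, m₀ ≤ m → hfun (Ideal.span (Set.range f)) m = ∏ i, d i := by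
  classical
  -- after `i` steps the Hilbert function is a polynomial of degree `n - i`
  suffices ∀ i : ℕ, i ≤ n → ∃ (P : Polynomial ℚ) (m₀ : ℕ),
      (∀ m, m₀ ≤ m → P.eval (m : ℚ) = hfun (Ideal.span (f '' {j | (j : ℕ) < i})) m) ∧
      P.natDegree = n - i ∧ P.leadingCoeff * (n - i).factorial = ∏ j with (j : Fin n).1 < i, (d j : ℚ) by
    obtain ⟨P, m₀, h1, h2, h3⟩ := this n le_rfl
    refine ⟨m₀, fun m hm => ?_⟩
    have h := h1 m hm
    rw [Nat.sub_self] at h2 h3
    rw [Nat.factorial_zero, Nat.cast_one, mul_one, Finset.filter_true_of_mem (fun j _ => j.2)] at h3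
    rw [show f '' {j : Fin n | (j : ℕ) < n} = Set.range f from by simp] at h
    rw [Polynomial.eq_C_of_natDegree_eq_zero h2, Polynomial.eval_C,
      show P.coeff 0 = P.leadingCoeff by rw [Polynomial.leadingCoeff, h2], h3] at h
    exact_mod_cast h.symm
  intro i
  induction i with
  | zero =>
    intro _
    refine ⟨Polynomial.preHilbertPoly ℚ n 0, 0, fun m _ => ?_, ?_, ?_⟩
    · rw [Polynomial.preHilbertPoly_eq_choose_sub_add ℚ n (Nat.zero_le m), Nat.sub_zero]
      norm_cast
      haveI := finite_piece (k := k) (n := n) m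
      rw [show f '' {j : Fin n | (j : ℕ) < 0} = ∅ from by simp, Ideal.span_empty]
      have h := hfun_cast (⊥ : Ideal S) m
      rw [show Submodule.restrictScalars k (⊥ : Ideal S) ⊓ CohB1.polyGrading n k m = ⊥ from by simp,
        finrank_bot, Nat.cast_zero, sub_zero] at h
      rw [Nat.cast_inj] at h
      rw [h, finrank_piece]
    · rw [Nat.sub_zero, Polynomial.natDegree_preHilbertPoly]
    · rw [Nat.sub_zero, Polynomial.leadingCoeff_preHilbertPoly, inv_mul_cancel₀ (by positivity)]
      simp
  | succ i ih =>
    intro hi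
    obtain ⟨P, m₀, h1, h2, h3⟩ := ih (by omega)
    let c : Fin n := ⟨i, by omega⟩
    have hspan : Ideal.span (f '' {j : Fin n | (j : ℕ) < i + 1}) =
        Ideal.span (f '' {j : Fin n | (j : ℕ) < i}) ⊔ Ideal.span {f c} := by
      rw [← Ideal.span_union, ← Set.image_singleton, ← Set.image_union]
      refine congrArg (fun t => Ideal.span (f '' t)) (Set.ext fun j => ?_)
      simp only [Set.mem_setOf_eq, Set.mem_union, Set.mem_singleton_iff, Fin.ext_iff, c]
      omega
    have hhom : (Ideal.span (f '' {j : Fin n | (j : ℕ) < i})).IsHomogeneous (CohB1.polyGrading n k) := by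
      refine Ideal.homogeneous_span _ _ ?_
      rintro _ ⟨j, -, rfl⟩
      exact ⟨d j, hf j⟩
    obtain ⟨h4, h5⟩ := shift_degree (P := P) (e := n - (i + 1)) (by omega) (c := (d c : ℚ))
      (Nat.cast_ne_zero.mpr (by have := hd c; omega))
    refine ⟨_, m₀ + d c, fun m hm => ?_, h4, ?_⟩
    · have h := hfun_sup_span _ hhom (hf c) (fun g hg => regular_of_dim_one f d hd hf hdim c g hg) m (by omega)
      rw [hspan]
      simp only [Polynomial.eval_sub, Polynomial.eval_comp, Polynomial.eval_X, Polynomial.eval_C]
      rw [← Nat.cast_sub (by omega), h1 m (by omega), h1 (m - d c) (by omega)]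
      have h' := congrArg (fun t : ℕ => (t : ℚ)) h
      simp only [Nat.cast_add] at h'
      linarith
    · rw [h5]
      have hfil : (Finset.univ.filter fun j : Fin n => j.1 < i + 1) =
          insert c (Finset.univ.filter fun j : Fin n => j.1 < i) := by
        ext j
        simp only [Finset.mem_filter, Finset.mem_univ, true_and, Finset.mem_insert, Fin.ext_iff, c]
        omega
      rw [hfil, Finset.prod_insert (by simp [c]), ← h3, show n - i = n - (i + 1) + 1 by omega,
        Nat.factorial_succ]
      push_cast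
      ring

end Groth.Agent.HilbGr
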