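import Groth.Agent.HilbGr.Basic

/-!
Degree of the Hilbert polynomial.
-/

set_option autoImplicit false

universe u

open Polynomial

namespace Groth.Agent.HilbGr

variable {k : Type u} [Field k] {n : ℕ}

/-- The degree of the Hilbert polynomial is one less than the dimension. -/
theorem dim_eq (I : Ideal (MvPolynomial (Fin (n + 1)) k)) (hI : I.IsHomogeneous (CohB1.polyGrading n k)) (P : ℚ[X]) (hP0 : P ≠ 0)
    (hP : ∃ m₀ : ℕ, ∀ m : ℕ, m₀ ≤ m → P.eval (m : ℚ) = hfun I m) :
    ringKrullDim (MvPolynomial (Fin (n + 1)) k ⧸ I) = (P.natDegree : WithBot ℕ∞) + 1 := by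
  obtain ⟨m₀, hm₀⟩ := hP
  have hne : I ≠ ⊤ := by
    rintro rfl
    apply hP0
    refine eq_zero_of_infinite_isRoot P (Set.Infinite.mono (s := ((↑) : ℕ → ℚ) '' Set.Ici m₀) ?_
      ((Set.Ici_infinite m₀).image Nat.cast_injective.injOn))
    rintro _ ⟨m, hm, rfl⟩
    show P.eval (m : ℚ) = 0
    rw [hm₀ m hm]
    haveI : Subsingleton (↥(CohB1.polyGrading n k m) ⧸
      (Submodule.restrictScalars k (⊤ : Ideal (MvPolynomial (Fin (n + 1)) k))).comap (CohB1.polyGrading n k m).subtype) :=
      Submodule.Quotient.subsingleton_iff.mpr (by simp)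
    rw [hfun, Module.finrank_zero_of_subsingleton, Nat.cast_zero]
  obtain ⟨L, _, _, _, hdim, hhs⟩ := exists_local I hI hne
  obtain ⟨R, hR⟩ := Groth.Agent.HSLib.exists_poly_jacobson (A := L) L
  have hd := Groth.Agent.HSLib.supportDim_eq L R hR
  rw [Module.supportDim_self_eq_ringKrullDim, hdim] at hd
  have hdiff : P = R.comp (X + C 1) - R := by
    obtain ⟨N, hN⟩ := Filter.eventually_atTop.mp hR
    refine sub_eq_zero.mp (eq_zero_of_infinite_isRoot _ (Set.Infinite.mono (s := ((↑) : ℕ → ℚ) '' Set.Ici (max m₀ N)) ?_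
      ((Set.Ici_infinite _).image Nat.cast_injective.injOn)))
    rintro _ ⟨m, hm, rfl⟩
    show (P - (R.comp (X + C 1) - R)).eval (m : ℚ) = 0
    have e1 := hN (m + 1) (le_trans (le_max_right _ _) (Nat.le_succ_of_le hm))
    have e2 := hN m (le_trans (le_max_right _ _) hm)
    rw [hhs, Finset.sum_range_succ] at e1
    rw [hhs] at e2
    push_cast at e1 e2
    simp only [eval_sub, eval_comp, eval_add, Polynomial.eval_X, Polynomial.eval_C, Polynomial.eval_one]
    rw [hm₀ m (le_trans (le_max_left _ _) hm)]
    linarith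
  have hpos : 0 < R.natDegree := by
    by_contra h
    obtain ⟨c, hc⟩ := natDegree_eq_zero.mp (by omega : R.natDegree = 0)
    exact hP0 (by rw [hdiff, ← hc, C_comp, sub_self])
  have hlt : P.natDegree < R.natDegree := by
    have := Groth.Agent.HSLib.natDegree_shift_lt R (-1) hpos
    rw [map_neg, sub_neg_eq_add] at this
    rw [hdiff, ← neg_sub, natDegree_neg]
    exact this
  have hge : R.natDegree ≤ P.natDegree + 1 := by
    obtain ⟨Q, hQ, hQe⟩ := Groth.Agent.HSLib.exists_antidiff (P.natDegree + 1) P
      (lt_of_le_of_lt degree_le_natDegree (by exact_mod_cast Nat.lt_succ_self _))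
    have hc : (R - Q).natDegree = 0 := by
      by_contra h
      have h2 := Groth.Agent.HSLib.natDegree_shift_lt (R - Q) (-1) (Nat.pos_of_ne_zero h)
      have h3 : (R - Q).comp (X - C (-1 : ℚ)) = R - Q := by
        refine Polynomial.funext fun y => ?_
        have e := hQe y
        rw [hdiff] at e
        simp only [eval_sub, eval_comp, eval_add, Polynomial.eval_X, Polynomial.eval_C] at e ⊢
        rw [sub_neg_eq_add]
        linarith
      have hconst : ∀ m : ℕ, (R - Q).eval (m : ℚ) = (R - Q).eval 0 := by
        intro m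
        induction m with
        | zero => rw [Nat.cast_zero]
        | succ m ih =>
          have h4 := congrArg (Polynomial.eval (m : ℚ)) h3
          simp only [eval_comp, eval_sub, Polynomial.eval_X, Polynomial.eval_C, sub_neg_eq_add] at h4
          rw [← ih, eval_sub, eval_sub]
          push_cast
          linarith
      have h5 : R - Q = C ((R - Q).eval 0) := by
        refine sub_eq_zero.mp (eq_zero_of_infinite_isRoot _ (Set.Infinite.mono (s := Set.range ((↑) : ℕ → ℚ)) ?_
          (Set.infinite_range_of_injective Nat.cast_injective)))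
        rintro _ ⟨m, rfl⟩
        show (R - Q - C ((R - Q).eval 0)).eval (m : ℚ) = 0
        rw [eval_sub, Polynomial.eval_C, hconst, sub_self]
      exact h (by rw [h5, natDegree_C])
    have hQd : Q.natDegree ≤ P.natDegree + 1 := by
      rcases eq_or_ne Q 0 with rfl | hQ0
      · simp
      · rw [degree_eq_natDegree hQ0] at hQ
        have : Q.natDegree < P.natDegree + 1 + 1 := by exact_mod_cast hQ
        omega
    calc R.natDegree = (Q + (R - Q)).natDegree := by rw [add_sub_cancel]
      _ ≤ max Q.natDegree (R - Q).natDegree := natDegree_add_le _ _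
      _ ≤ P.natDegree + 1 := max_le hQd (by omega)
  rw [← hd, show R.natDegree = P.natDegree + 1 by omega]
  norm_cast

end Groth.Agent.HilbGr
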