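import Groth.Agent.HilbGr.Degree

/-!
Hypersurface sections of Hilbert functions.
-/

set_option autoImplicit false

universe u

namespace Groth.Agent.HilbGr

variable {k : Type u} [Field k] {n : ℕ}

local notation "S" => MvPolynomial (Fin (n + 1)) k

/-- Cutting by a homogeneous element, with the colon ideal as the correction. -/
theorem hfun_sup_span' (I K : Ideal S) (hI : I.IsHomogeneous (CohB1.polyGrading n k)) {f : S} {d : ℕ}
    (hf : f.IsHomogeneous d) (hK : ∀ g, g * f ∈ I ↔ g ∈ K) (m : ℕ) (hm : d ≤ m) :
    hfun (I ⊔ Ideal.span {f}) m + hfun K (m - d) = hfun I m := by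
  classical
  haveI := finite_piece (k := k) (n := n) m
  haveI := finite_piece (k := k) (n := n) (m - d)
  let T := CohB1.polyGrading n k
  have hmul : ∀ g : T (m - d), (g : S) * f ∈ T m := fun g => by
    show ((g : S) * f).IsHomogeneous m
    have := (show ((g : S)).IsHomogeneous (m - d) from g.2).mul hf
    rwa [Nat.sub_add_cancel hm] at this
  let μ : T (m - d) →ₗ[k] T m :=
    { toFun := fun g => ⟨(g : S) * f, hmul g⟩
      map_add' := fun a b => Subtype.ext (add_mul _ _ _)
      map_smul' := fun c a => Subtype.ext (smul_mul_assoc c (a : S) f) }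
  let J : Ideal S := I ⊔ Ideal.span {f}
  let α := Submodule.mapQ ((Submodule.restrictScalars k K).comap (T (m - d)).subtype)
    ((Submodule.restrictScalars k I).comap (T m).subtype) μ
    (fun g hg => (hK _).mpr hg)
  let β := Submodule.factor (p := (Submodule.restrictScalars k I).comap (T m).subtype)
    (p' := (Submodule.restrictScalars k J).comap (T m).subtype)
    (fun g hg => Ideal.mem_sup_left (show (g : S) ∈ I from hg))
  have hα : Function.Injective α := by
    rw [← LinearMap.ker_eq_bot, Submodule.eq_bot_iff]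
    intro x hx
    obtain ⟨g, rfl⟩ := Submodule.mkQ_surjective _ x
    rw [LinearMap.mem_ker] at hx
    erw [Submodule.mapQ_apply, Submodule.Quotient.mk_eq_zero] at hx
    exact (Submodule.Quotient.mk_eq_zero _).mpr ((hK _).mp hx)
  have hβ : Function.Surjective β := Submodule.factor_surjective _
  have hrange : LinearMap.ker β = LinearMap.range α := by
    refine le_antisymm (fun x hx => ?_) ?_
    · obtain ⟨g, rfl⟩ := Submodule.mkQ_surjective _ x
      rw [LinearMap.mem_ker] at hx
      erw [Submodule.factor_mk, Submodule.Quotient.mk_eq_zero] at hx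
      have hx' : (g : S) ∈ J := hx
      obtain ⟨a, ha, b, hb, hab⟩ := Submodule.mem_sup.mp hx'
      obtain ⟨c, rfl⟩ := Ideal.mem_span_singleton'.mp hb
      have hcd : MvPolynomial.homogeneousComponent (m - d) c ∈ T (m - d) :=
        MvPolynomial.homogeneousComponent_mem _ _
      refine ⟨Submodule.Quotient.mk ⟨_, hcd⟩, ?_⟩
      erw [Submodule.mapQ_apply]
      refine (Submodule.Quotient.eq _).mpr ?_
      show MvPolynomial.homogeneousComponent (m - d) c * f - (g : S) ∈ I
      have hg : MvPolynomial.homogeneousComponent m (g : S) = g := by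
        rw [MvPolynomial.homogeneousComponent_of_mem g.2, if_pos rfl]
      have hcomp : MvPolynomial.homogeneousComponent m (c * f) =
          MvPolynomial.homogeneousComponent (m - d) c * f := by
        rw [← Groth.Agent.VarDim.ProjN.proj_apply, ← Groth.Agent.VarDim.ProjN.proj_apply]
        exact DirectSum.coe_decompose_mul_of_right_mem_of_le _ (show f ∈ T d from hf) hm
      rw [← hg, ← hab, map_add, hcomp, sub_add_eq_sub_sub_swap, sub_self, zero_sub]
      exact neg_mem (comp_mem I hI ha m)
    · rintro _ ⟨x, rfl⟩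
      obtain ⟨g, rfl⟩ := Submodule.mkQ_surjective _ x
      rw [LinearMap.mem_ker]
      erw [Submodule.mapQ_apply, Submodule.Quotient.mk_eq_zero]
      exact Ideal.mem_sup_right (Ideal.mul_mem_left _ _ (Ideal.subset_span rfl))
  have h := LinearMap.finrank_range_add_finrank_ker β
  rw [LinearMap.range_eq_top.mpr hβ, finrank_top, hrange, LinearMap.finrank_range_of_inj hα] at h
  exact h

/-- Cutting by a homogeneous nonzerodivisor modulo `I`. -/
theorem hfun_sup_span (I : Ideal S) (hI : I.IsHomogeneous (CohB1.polyGrading n k)) {f : S} {d : ℕ}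
    (hf : f.IsHomogeneous d) (hreg : ∀ g, g * f ∈ I → g ∈ I) (m : ℕ) (hm : d ≤ m) :
    hfun (I ⊔ Ideal.span {f}) m + hfun I (m - d) = hfun I m :=
  hfun_sup_span' I I hI hf (fun g => ⟨hreg g, fun hg => I.mul_mem_right f hg⟩) m hm

open Polynomial in
theorem shift_degree {P : ℚ[X]} {e : ℕ} (he : P.natDegree = e + 1) {c : ℚ} (hc : c ≠ 0) :
    (P - P.comp (X - C c)).natDegree = e ∧
      (P - P.comp (X - C c)).leadingCoeff = c * (e + 1) * P.leadingCoeff := by
  have hcoef : (P - P.comp (X - C c)).coeff e = c * (e + 1) * P.leadingCoeff := by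
    have hh : P.comp (X - C c) = taylor (-c) P := by
      rw [taylor_apply, map_neg, sub_eq_add_neg]
    have hd : (hasseDeriv e P).natDegree ≤ 1 := (natDegree_hasseDeriv_le P e).trans (by omega)
    rw [coeff_sub, hh, taylor_coeff, eval_eq_sum_range' (Nat.lt_succ_of_le hd), Finset.sum_range_succ,
      Finset.sum_range_one, hasseDeriv_coeff, hasseDeriv_coeff]
    rw [zero_add, Nat.choose_self, show 1 + e = e + 1 from add_comm 1 e, Nat.choose_succ_self_right,
      ← he, coeff_natDegree]
    rw [he]
    push_cast
    ring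
  have hlt := Groth.Agent.HSLib.natDegree_shift_lt P c (by omega)
  have hlead : P.leadingCoeff ≠ 0 := leadingCoeff_ne_zero.mpr (ne_zero_of_natDegree_gt (n := 0) (by omega))
  have hne : (P - P.comp (X - C c)).coeff e ≠ 0 := by
    rw [hcoef]
    exact mul_ne_zero (mul_ne_zero hc (by positivity)) hlead
  have hdeg : (P - P.comp (X - C c)).natDegree = e :=
    le_antisymm (by omega) (le_natDegree_of_ne_zero hne)
  exact ⟨hdeg, by rw [leadingCoeff, hdeg, hcoef]⟩

end Groth.Agent.HilbGr
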